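import Cfsg.Agent.Lib.ThreeTransp.M23Prime.Basic
import Cfsg.Agent.Lib.ThreeTransp.PrimeLift

/-!
The facts on a group of type M(24) used for its subgroups of prime order.
-/

set_option autoImplicit false
set_option linter.unusedSectionVars false

namespace Cfsg.Agent.ThreeTransp.M24Prime

open Cfsg.Agent.ThreeTransp
open Cfsg.Agent.ThreeTransp.Factor (nb Hd Sd Dl Dq mem_Hd)
open Cfsg.Agent.ThreeTransp.M22Prime
open Cfsg.Agent.GenA.Tower (pr pr_mk pr_mul pr_inv pr_mem pr_inj pr_nb)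

universe u

/-- The facts used. -/
structure Facts {G : Type u} [Group G] (D : Set G) : Prop where
  lift : ∀ a ∈ D, PrimeLift.At D a
  grp : ∀ a ∈ D, Cfsg.IsThreeTranspositionGroup (Dq D a)
  prim : ∀ a ∈ D, Cfsg.IsPrimitiveUnderConj (Dq D a)
  t23 : ∀ a ∈ D, Cfsg.IsOfTypeM23 (Sd D a) (Dq D a)
  ncard_class : D.ncard = 306936
  ncard_nb : ∀ a ∈ D, (nb D a).ncard = 31671
  ncard_inter : ∀ a ∈ D, ∀ c ∈ D, ¬ Commute a c → (nb D a ∩ nb D c).ncard = 3240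

variable {G : Type u} [Group G] [Finite G] {D : Set G}
  (hD : Cfsg.IsThreeTranspositionGroup D) (hprim : Cfsg.IsPrimitiveUnderConj D) (B : Facts D)
include hD B

theorem card_cent {a : G} (ha : a ∈ D) :
    Nat.card ↥(Subgroup.centralizer ({a} : Set G)) = 2 * 4089470473293004800 := by
  rw [(B.lift a ha).cent, ← (Subgroup.center ↥(Hd D a)).index_mul_card, Subgroup.index,
    GenA.Tower.M23.card_group (B.grp a ha) (B.prim a ha) (B.t23 a ha), mul_comm]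
  congr 1
  have := PrimeLift.card_ker hD (B.lift a ha)
  rwa [QuotientGroup.ker_mk'] at this

/-- The members fixed by a `p`-group, modulo `p`. -/
theorem modEq_class {p : ℕ} [Fact p.Prime] {X : Subgroup G} (hX : IsPGroup p ↥X) :
    306936 ≡ (fixIn D X).ncard [MOD p] := by
  have := modEq_fixIn hX (fun x _ s hs => hD.2.1 x s hs)
  rwa [B.ncard_class] at this

theorem modEq_inter {p : ℕ} [Fact p.Prime] {X : Subgroup G} (hX : IsPGroup p ↥X) {a c : G}
    (ha : a ∈ fixIn D X) (hc : c ∈ fixIn D X) (hac : ¬ Commute a c) :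
    3240 ≡ (fixIn (nb D a ∩ nb D c) X).ncard [MOD p] := by
  have := modEq_fixIn hX
    (inter_stable hD (mem_fixIn_iff_le.1 ha).2 (mem_fixIn_iff_le.1 hc).2)
  rwa [B.ncard_inter a ha.1 c hc.1 hac] at this

include hprim

theorem card_group : Nat.card G = 306936 * (2 * 4089470473293004800) := by
  obtain ⟨a, ha, -⟩ := hprim.2.1
  rw [GenA.Tower.card_of_centralizer hD hprim.1 ha, B.ncard_class, card_cent hD B ha]

/-- Transitivity on commuting triples. -/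
theorem triple_trans {a b c x y z : G} (ha : a ∈ D) (hb : b ∈ nb D a)
    (hc : c ∈ nb D a ∩ nb D b) (hx : x ∈ D) (hy : y ∈ nb D x) (hz : z ∈ nb D x ∩ nb D y) :
    ∃ g : G, g * a * g⁻¹ = x ∧ g * b * g⁻¹ = y ∧ g * c * g⁻¹ = z := by
  obtain ⟨g, hg⟩ := hprim.1 a ha x hx
  have hgb : g * b * g⁻¹ ∈ nb D x := hg ▸ Cover.conj_nb hD g hb
  have hgc : g * c * g⁻¹ ∈ nb D x ∩ nb D (g * b * g⁻¹) :=
    ⟨hg ▸ Cover.conj_nb hD g hc.1, Cover.conj_nb hD g hc.2⟩
  have hs := (B.lift x hx).sep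
  obtain ⟨K, hKb, hKc⟩ := M23Prime.pair_trans (B.grp x hx) (B.prim x hx) (B.t23 x hx) (pr_mem hgb)
    ((pr_nb hD hs hgb hgc.1).2 hgc.2) (pr_mem hy) ((pr_nb hD hs hy hz.1).2 hz.2)
  obtain ⟨⟨k, hk⟩, rfl⟩ := QuotientGroup.mk_surjective K
  have hkx : k * x * k⁻¹ = x := M22.conj_eq_self_iff.2 (Factor.Hd_commute hk).symm
  have key : ∀ u ∈ nb D x, ∀ v ∈ nb D x,
      (QuotientGroup.mk ⟨k, hk⟩ : Sd D x) * pr D x u * (QuotientGroup.mk ⟨k, hk⟩ : Sd D x)⁻¹ =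
        pr D x v → k * u * k⁻¹ = v := by
    intro u hu v hv h
    refine pr_inj hs (hkx ▸ Cover.conj_nb hD k hu) hv ?_
    rw [pr_mul (mul_mem hk (mem_Hd hu)) (inv_mem hk), pr_mul hk (mem_Hd hu), pr_inv hk, pr_mk hk]
    exact h
  refine ⟨k * g, ?_, ?_, ?_⟩
  · rw [show k * g * a * (k * g)⁻¹ = k * (g * a * g⁻¹) * k⁻¹ by group, hg, hkx]
  · rw [show k * g * b * (k * g)⁻¹ = k * (g * b * g⁻¹) * k⁻¹ by group]
    exact key _ hgb _ hy hKb
  · rw [show k * g * c * (k * g)⁻¹ = k * (g * c * g⁻¹) * k⁻¹ by group]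
    exact key _ hgc.1 _ hz.1 hKc

end Cfsg.Agent.ThreeTransp.M24Prime
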